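import Mathlib.Algebra.Field.MinimalAxioms
import Mathlib.Tactic.DeriveFintype
import Mathlib.Data.Fintype.Pi
import Mathlib.Data.List.GetD

/-! A field with four elements given by tables. -/

set_option autoImplicit false

namespace CfsgLib.Coset.G24

/-- The elements `0, 1, ω, ω + 1`. -/
inductive F4
  | z
  | o
  | w
  | v
  deriving DecidableEq

instance : Fintype F4 := ⟨{.z, .o, .w, .v}, fun x => by cases x <;> decide⟩

namespace F4

/-- Addition. -/
def add : F4 → F4 → F4
  | .z, y => y
  | x, .z => x
  | .o, .o => .z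
  | .w, .w => .z
  | .v, .v => .z
  | .o, .w => .v
  | .w, .o => .v
  | .o, .v => .w
  | .v, .o => .w
  | .w, .v => .o
  | .v, .w => .o

/-- Multiplication. -/
def mul : F4 → F4 → F4
  | .z, _ => .z
  | _, .z => .z
  | .o, y => y
  | x, .o => x
  | .w, .w => .v
  | .w, .v => .o
  | .v, .w => .o
  | .v, .v => .w

/-- Inversion. -/
def inv : F4 → F4
  | .z => .z
  | .o => .o
  | .w => .v
  | .v => .w

instance : Add F4 := ⟨add⟩
instance : Mul F4 := ⟨mul⟩
instance : Zero F4 := ⟨.z⟩
instance : One F4 := ⟨.o⟩
instance : Neg F4 := ⟨fun x => x⟩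
instance : Inv F4 := ⟨inv⟩

instance instField : Field F4 :=
  Field.ofMinimalAxioms F4 (by decide) (by decide) (by decide) (by decide) (by decide) (by decide)
    (by decide) (by decide) (by decide) ⟨.z, .o, by decide⟩

theorem card_eq : Fintype.card F4 = 4 := by decide

end F4

end CfsgLib.Coset.G24
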