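import Cfsg.Agent.Coset.Checker
import Cfsg.Agent.Coset.G24.Field
import Mathlib.LinearAlgebra.Matrix.GeneralLinearGroup.Defs
import Mathlib.Algebra.BigOperators.Fin

/-!
Evaluating products of matrices over the field with four elements on vectors, in the kernel.
-/

set_option autoImplicit false

namespace CfsgLib.Coset.G24

open Matrix

section Kernel

/-- Evaluate a field element to a constructor. -/
noncomputable def force (c : F4) (K : F4 → Bool) : Bool := F4.rec (K .z) (K .o) (K .w) (K .v) c

/-- Scalar product of lists. -/
def dot : List F4 → List F4 → F4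
  | a :: s, b :: t => a * b + dot s t
  | _, _ => 0

/-- Multiply a vector by a matrix given by rows. -/
noncomputable def mulVecK (rows : List (List F4)) (l : List F4) (K : List F4 → Bool) : Bool :=
  List.rec (motive := fun _ => (List F4 → Bool) → Bool) (fun K => K [])
    (fun row _ ih K => force (dot row l) fun c => ih fun r => K (c :: r)) rows K

/-- Apply a word of matrices. -/
noncomputable def runW (mats : List (List (List F4))) (w : List Nat) (l : List F4)
    (K : List F4 → Bool) : Bool :=
  List.rec (motive := fun _ => (List F4 → Bool) → Bool) (fun K => K l)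
    (fun a _ ih K => ih fun r => mulVecK (mats.getD a []) r K) w K

/-- Equality of lists of field elements. -/
def beqL : List F4 → List F4 → Bool
  | [], [] => true
  | a :: s, b :: t => decide (a = b) && beqL s t
  | _, _ => false

end Kernel

theorem force_eq (c : F4) (K : F4 → Bool) : force c K = K c := by cases c <;> rfl

theorem mulVecK_eq (rows : List (List F4)) (l : List F4) : ∀ K : List F4 → Bool,
    mulVecK rows l K = K (rows.map fun row => dot row l) := by
  induction rows with
  | nil => intro K; rfl
  | cons row t ih =>
    intro K
    change force (dot row l) (fun c => mulVecK t l fun r => K (c :: r)) = _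
    rw [force_eq, ih]; rfl

theorem eq_of_beqL : ∀ {s t : List F4}, beqL s t = true → s = t := by
  intro s
  induction s with
  | nil => intro t h; cases t <;> simp_all [beqL]
  | cons a s ih =>
    intro t h
    cases t with
    | nil => simp [beqL] at h
    | cons b t =>
      simp only [beqL, Bool.and_eq_true, decide_eq_true_eq] at h
      rw [h.1, ih h.2]

theorem dot_ofFn : ∀ {n : ℕ} (f g : Fin n → F4),
    dot (List.ofFn f) (List.ofFn g) = ∑ i, f i * g i := by
  intro n
  induction n with
  | zero => intro f g; simp [dot]
  | succ n ih => intro f g; simp [List.ofFn_succ, dot, ih, Fin.sum_univ_succ]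

variable {ι : Type} [Fintype ι] [DecidableEq ι] {n : ℕ} (e : ι ≃ Fin n)

/-- A vector as a list. -/
def toVec (x : ι → F4) : List F4 := List.ofFn fun i => x (e.symm i)

/-- A matrix as rows. -/
def rowsOf (M : Matrix ι ι F4) : List (List F4) :=
  List.ofFn fun i => List.ofFn fun j => M (e.symm i) (e.symm j)

theorem toVec_injective : Function.Injective (toVec e) := fun x y h =>
  funext fun i => by simpa using congrFun (List.ofFn_injective h) (e i)

theorem mulVec_rows (M : Matrix ι ι F4) (x : ι → F4) :
    (rowsOf e M).map (fun row => dot row (toVec e x)) = toVec e (M *ᵥ x) := by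
  rw [rowsOf, List.map_ofFn, toVec]
  congr 1
  funext i
  rw [Function.comp_apply, dot_ofFn]
  simp only [Matrix.mulVec, dotProduct]
  exact Equiv.sum_comp e.symm fun j => M (e.symm i) j * x j

variable {L : List (GL ι F4)} {mats : List (List (List F4))}

theorem runW_eq (hm : ∀ l, l < L.length → mats.getD l [] = rowsOf e (fl L l : GL ι F4).val) :
    ∀ (w : List Nat), (∀ l ∈ w, l < L.length) → ∀ (x : ι → F4) (K : List F4 → Bool),
      runW mats w (toVec e x) K = K (toVec e ((ev L w : GL ι F4).val *ᵥ x)) := by
  intro w
  induction w with
  | nil => intro _ x K; simp [runW]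
  | cons a w ih =>
    intro hl x K
    change runW mats w (toVec e x) (fun r => mulVecK (mats.getD a []) r K) = _
    rw [ih (fun l h => hl l (by simp [h])), mulVecK_eq, hm a (hl a (by simp)), mulVec_rows,
      ev_cons, Units.val_mul, Matrix.mulVec_mulVec]

/-- Basis columns determine the product. -/
noncomputable def checkCols (mats : List (List (List F4))) (w : List Nat) (n : ℕ)
    (target : List (List F4)) : Bool :=
  (List.range n).all fun j =>
    runW mats w ((List.range n).map fun i => if i = j then 1 else 0)
      fun r => beqL r (target.map fun row => row.getD j 0)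

theorem ev_eq_of_checkCols (hm : ∀ l, l < L.length → mats.getD l [] = rowsOf e (fl L l : GL ι F4).val)
    {w : List Nat} (hl : ∀ l ∈ w, l < L.length) (M : Matrix ι ι F4)
    (h : checkCols mats w n (rowsOf e M) = true) : (ev L w : GL ι F4).val = M := by
  ext i j
  have hj := List.all_eq_true.mp h (e j : Nat) (List.mem_range.mpr (e j).isLt)
  have hv : ((List.range n).map fun a => if a = (e j : Nat) then (1 : F4) else 0) =
      toVec e (Pi.single j 1) := by
    apply List.ext_getElem
    · simp [toVec]
    · intro a h1 h2
      have ha : a < n := by simpa using h1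
      simp [toVec, Pi.single_apply, Equiv.symm_apply_eq, Fin.ext_iff]
  have hc : (rowsOf e M).map (fun row => row.getD (e j : Nat) 0) = toVec e fun i => M i j := by
    rw [rowsOf, List.map_ofFn, toVec]
    congr 1
    funext a
    simp [List.getD_eq_getElem?_getD]
  rw [hv, runW_eq e hm w hl, hc] at hj
  have := congrFun (toVec_injective e (eq_of_beqL hj)) i
  simpa using this

end CfsgLib.Coset.G24
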