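import Cfsg.Agent.Coset.G24.Field

set_option autoImplicit false

namespace CfsgLib.Coset.G24

/-- The matrices of the generators, by rows. -/
def gensL : List (List (List F4)) := [[[.o, .z, .v, .z, .z, .z, .z, .z, .z, .z, .z, .z, .z, .z], [.z, .o, .z, .z, .z, .z, .z, .z, .z, .z, .z, .z, .z, .z], [.z, .z, .o, .z, .z, .z, .z, .z, .z, .z, .z, .z, .z, .z], [.z, .z, .z, .o, .z, .z, .z, .z, .z, .z, .z, .z, .z, .z], [.z, .z, .z, .z, .o, .z, .z, .z, .z, .z, .z, .z, .z, .z], [.z, .z, .z, .z, .z, .o, .z, .z, .z, .z, .z, .z, .z, .z], [.z, .z, .z, .z, .z, .z, .o, .z, .z, .z, .z, .z, .z, .z], [.z, .z, .z, .z, .z, .z, .z, .o, .z, .z, .z, .z, .z, .z], [.z, .z, .z, .v, .z, .z, .z, .z, .o, .z, .z, .z, .z, .z], [.z, .z, .z, .z, .z, .z, .z, .z, .z, .o, .z, .z, .z, .z], [.z, .z, .z, .z, .v, .z, .z, .z, .z, .z, .o, .z, .z, .z], [.z,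 .z, .z, .z, .z, .v, .z, .z, .z, .z, .z, .o, .z, .z], [.z, .z, .z, .z, .z, .z, .z, .v, .z, .z, .z, .z, .o, .z], [.z, .v, .w, .z, .z, .z, .z, .z, .z, .z, .z, .z, .z, .o]],
  [[.o, .z, .o, .v, .z, .w, .v, .z, .z, .o, .v, .z, .w, .v], [.w, .o, .v, .o, .o, .v, .w, .o, .z, .v, .o, .o, .v, .w], [.w, .v, .o, .w, .o, .w, .w, .z, .z, .v, .w, .w, .o, .w], [.v, .w, .o, .v, .z, .v, .w, .o, .v, .w, .o, .o, .v, .o], [.o, .z, .o, .o, .v, .o, .w, .w, .z, .o, .o, .w, .o, .w], [.o, .v, .z, .w, .w, .v, .w, .v, .z, .v, .w, .o, .o, .w], [.v, .o, .o, .z, .v, .o, .o, .v, .v, .o, .v, .o, .w, .v], [.z, .z, .v, .z, .z, .v, .z, .o, .z, .v, .z, .z, .v, .z], [.o, .z, .v, .v, .w, .o, .z, .w, .o, .v, .v, .w, .o, .z], [.w, .v, .v, .w, .o, .o, .w, .z, .z, .o, .w, .w, .w, .w], [.v, .w, .w, .o, .z, .v, .o, .o, .v, .o, .v, .o, .v, .w], [.o, .z, .v,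 .w, .w, .z, .o, .w, .z, .v, .w, .v, .z, .o], [.o, .v, .v, .w, .w, .o, .w, .v, .z, .z, .w, .o, .v, .w], [.v, .o, .o, .v, .v, .w, .v, .v, .v, .o, .z, .o, .o, .o]],
  [[.o, .z, .w, .z, .z, .z, .z, .z, .z, .z, .z, .z, .z, .z], [.z, .o, .z, .z, .z, .z, .z, .w, .z, .z, .z, .z, .z, .z], [.z, .z, .o, .z, .z, .z, .z, .z, .z, .z, .z, .z, .z, .z], [.z, .z, .w, .o, .z, .z, .z, .z, .z, .z, .z, .z, .z, .z], [.z, .z, .z, .z, .o, .z, .z, .z, .z, .z, .z, .z, .z, .z], [.z, .z, .z, .z, .z, .o, .z, .z, .z, .z, .z, .z, .z, .z], [.z, .z, .z, .z, .z, .w, .o, .z, .z, .z, .z, .z, .z, .z], [.z, .z, .z, .z, .z, .z, .z, .o, .z, .z, .z, .z, .z, .z], [.w, .z, .v, .w, .z, .z, .z, .v, .o, .z, .z, .z, .z, .z], [.z, .z, .z, .z, .z, .z, .z, .z, .z, .o, .z, .z, .z, .z], [.z, .z, .z, .z, .w, .z, .z, .z, .z, .w, .o, .z, .z, .z], [.z, .z, .z, .z, .z,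 .w, .z, .z, .z, .z, .z, .o, .z, .z], [.z, .z, .z, .z, .z, .z, .z, .w, .z, .z, .z, .z, .o, .z], [.z, .w, .v, .z, .z, .z, .z, .v, .z, .z, .z, .z, .w, .o]],
  [[.o, .w, .o, .z, .z, .v, .w, .v, .z, .v, .z, .z, .z, .z], [.z, .o, .v, .w, .v, .o, .z, .z, .z, .z, .z, .z, .z, .z], [.z, .z, .o, .z, .z, .z, .z, .z, .z, .z, .z, .z, .z, .z], [.z, .z, .z, .o, .o, .o, .z, .o, .z, .z, .z, .z, .z, .z], [.z, .z, .o, .v, .o, .v, .z, .o, .z, .z, .z, .z, .z, .z], [.z, .z, .v, .w, .w, .o, .z, .o, .z, .z, .z, .z, .z, .z], [.z, .v, .o, .v, .v, .v, .v, .v, .z, .v, .z, .z, .z, .z], [.z, .z, .w, .o, .w, .v, .z, .o, .z, .z, .z, .z, .z, .z], [.z, .v, .o, .w, .z, .w, .v, .z, .o, .v, .o, .o, .o, .z], [.z, .w, .z, .z, .z, .w, .o, .v, .z, .v, .z, .z, .z, .z], [.o, .v, .o, .v, .o, .z, .w, .w, .v, .v, .o, .v, .o, .z], [.v, .z, .v, .w, .w, .o, .z,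 .z, .w, .v, .w, .o, .o, .z], [.w, .z, .w, .o, .w, .v, .z, .w, .o, .v, .w, .v, .o, .z], [.v, .o, .w, .w, .v, .o, .z, .o, .w, .o, .v, .o, .z, .o]],
  [[.o, .z, .o, .z, .z, .z, .z, .z, .z, .o, .z, .z, .z, .z], [.z, .o, .z, .z, .z, .z, .z, .z, .z, .z, .z, .z, .z, .z], [.z, .z, .o, .z, .z, .z, .z, .z, .z, .z, .z, .z, .z, .z], [.z, .z, .z, .o, .o, .o, .z, .o, .z, .z, .z, .z, .z, .z], [.z, .z, .z, .z, .o, .z, .z, .o, .z, .z, .z, .z, .z, .z], [.z, .z, .z, .z, .z, .o, .z, .o, .z, .z, .z, .z, .z, .z], [.z, .o, .z, .z, .z, .z, .o, .z, .z, .o, .z, .z, .z, .z], [.z, .z, .z, .z, .z, .z, .z, .o, .z, .z, .z, .z, .z, .z], [.z, .z, .z, .o, .o, .o, .z, .o, .o, .z, .o, .o, .o, .z], [.z, .z, .z, .z, .z, .z, .z, .z, .z, .o, .z, .z, .z, .z], [.z, .z, .z, .z, .o, .z, .z, .o, .z, .z, .o, .z, .o, .z], [.z, .z, .z, .z, .z, .o, .z, .o, .z,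 .z, .z, .o, .o, .z], [.z, .z, .z, .z, .z, .z, .z, .o, .z, .z, .z, .z, .o, .z], [.z, .o, .o, .z, .z, .z, .z, .z, .z, .z, .z, .z, .z, .o]],
  [[.o, .z, .w, .z, .z, .z, .z, .z, .z, .z, .z, .z, .z, .z], [.z, .o, .z, .z, .z, .z, .z, .z, .z, .z, .z, .z, .z, .z], [.z, .z, .o, .z, .z, .z, .z, .z, .z, .z, .z, .z, .z, .z], [.z, .z, .z, .o, .z, .z, .z, .z, .z, .z, .z, .z, .z, .z], [.z, .z, .z, .z, .o, .z, .z, .z, .z, .z, .z, .z, .z, .z], [.z, .z, .z, .z, .z, .o, .z, .z, .z, .z, .z, .z, .z, .z], [.z, .z, .z, .z, .z, .z, .o, .z, .z, .z, .z, .z, .z, .z], [.z, .z, .z, .z, .z, .z, .z, .o, .z, .z, .z, .z, .z, .z], [.z, .z, .z, .w, .z, .z, .z, .z, .o, .z, .z, .z, .z, .z], [.z, .z, .z, .z, .z, .z, .z, .z, .z, .o, .z, .z, .z, .z], [.z, .z, .z, .z, .w, .z, .z, .z, .z, .z, .o, .z, .z, .z], [.z, .z, .z, .z, .z, .w, .z, .z, .z, .z, .z,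 .o, .z, .z], [.z, .z, .z, .z, .z, .z, .z, .w, .z, .z, .z, .z, .o, .z], [.z, .w, .v, .z, .z, .z, .z, .z, .z, .z, .z, .z, .z, .o]]]

/-- The generators as words in the root elements of `rootL`; the first factor acts last. -/
def wordsX : List (List Nat) := [[13, 14, 13, 14, 13, 14, 13, 14], [5, 19, 1, 0, 14, 13, 9, 14, 13, 12, 9, 14, 12, 9, 8, 14, 9, 8, 14], [13, 1, 23, 0, 12, 14, 13, 14, 12, 14, 13, 1, 23, 0, 12, 14, 13, 14, 12, 14, 13, 1, 23, 0], [1, 23, 0, 1, 23, 0, 12, 9, 8, 13, 14, 12, 14, 13, 1, 23, 0, 14, 9, 8], [1, 23, 0, 1, 23, 0, 12, 14, 13, 14, 12, 14, 13, 1, 23, 0, 14, 8], [1, 23, 0, 12, 14, 13, 14, 12, 14, 13, 1, 23, 0, 12, 14, 13, 14, 12, 14, 13, 1, 23, 0]]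

end CfsgLib.Coset.G24
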