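import Cfsg.Agent.Coset.G24.Field

set_option autoImplicit false

namespace CfsgLib.Coset.G24

/-- Root elements, by rows: entry `2 * r + e` is `x_r(1)` for `e = 0` and `x_r(ω)` for `e = 1`. -/
def rootL : List (List (List F4)) := [[[.o, .z, .z, .z, .z, .z, .z, .z, .z, .z, .z, .z, .z, .o], [.z, .o, .z, .z, .z, .z, .z, .z, .z, .z, .z, .z, .z, .z], [.z, .o, .o, .z, .z, .z, .z, .z, .z, .z, .z, .z, .z, .o], [.z, .z, .z, .o, .z, .z, .z, .z, .o, .z, .z, .z, .z, .z], [.z, .z, .z, .z, .o, .z, .z, .z, .z, .z, .o, .z, .z, .z], [.z, .z, .z, .z, .z, .o, .z, .z, .z, .z, .z, .o, .z, .z], [.z, .z, .z, .z, .z, .z, .o, .z, .z, .z, .z, .z, .z, .z], [.z, .z, .z, .z, .z, .z, .z, .o, .z, .z, .z, .z, .o, .z], [.z, .z, .z, .z, .z, .z, .z, .z, .o, .z, .z, .z, .z, .z], [.z, .z, .z, .z, .z, .z, .z, .z, .z, .o, .z, .z, .z, .z],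 [.z, .z, .z, .z, .z, .z, .z, .z, .z, .z, .o, .z, .z, .z], [.z, .z, .z, .z, .z, .z, .z, .z, .z, .z, .z, .o, .z, .z], [.z, .z, .z, .z, .z, .z, .z, .z, .z, .z, .z, .z, .o, .z], [.z, .z, .z, .z, .z, .z, .z, .z, .z, .z, .z, .z, .z, .o]],
  [[.o, .z, .z, .z, .z, .z, .z, .z, .z, .z, .z, .z, .z, .w], [.z, .o, .z, .z, .z, .z, .z, .z, .z, .z, .z, .z, .z, .z], [.z, .w, .o, .z, .z, .z, .z, .z, .z, .z, .z, .z, .z, .v], [.z, .z, .z, .o, .z, .z, .z, .z, .w, .z, .z, .z, .z, .z], [.z, .z, .z, .z, .o, .z, .z, .z, .z, .z, .w, .z, .z, .z], [.z, .z, .z, .z, .z, .o, .z, .z, .z, .z, .z, .w, .z, .z], [.z, .z, .z, .z, .z, .z, .o, .z, .z, .z, .z, .z, .z, .z], [.z, .z, .z, .z, .z, .z, .z, .o, .z, .z, .z, .z, .w, .z], [.z, .z, .z, .z, .z, .z, .z, .z, .o, .z, .z, .z, .z, .z], [.z, .z, .z, .z, .z, .z, .z, .z, .z, .o, .z, .z, .z,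 .z], [.z, .z, .z, .z, .z, .z, .z, .z, .z, .z, .o, .z, .z, .z], [.z, .z, .z, .z, .z, .z, .z, .z, .z, .z, .z, .o, .z, .z], [.z, .z, .z, .z, .z, .z, .z, .z, .z, .z, .z, .z, .o, .z], [.z, .z, .z, .z, .z, .z, .z, .z, .z, .z, .z, .z, .z, .o]],
  [[.o, .z, .z, .z, .z, .z, .z, .z, .z, .z, .z, .z, .o, .z], [.z, .o, .z, .z, .z, .z, .z, .z, .z, .z, .z, .z, .o, .z], [.z, .z, .o, .z, .z, .z, .z, .o, .z, .z, .z, .z, .z, .z], [.o, .o, .z, .o, .z, .z, .z, .z, .z, .z, .z, .z, .o, .z], [.z, .z, .z, .z, .o, .z, .z, .z, .z, .o, .z, .z, .z, .z], [.z, .z, .z, .z, .z, .o, .z, .z, .z, .z, .z, .z, .z, .z], [.z, .z, .z, .z, .z, .z, .o, .z, .z, .z, .z, .o, .z, .z], [.z, .z, .z, .z, .z, .z, .z, .o, .z, .z, .z, .z, .z, .z], [.z, .z, .z, .z, .z, .z, .z, .z, .o, .z, .z, .z, .z, .o], [.z, .z, .z, .z, .z, .z, .z, .z, .z, .o, .z, .z,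 .z, .z], [.z, .z, .z, .z, .z, .z, .z, .z, .z, .z, .o, .z, .z, .z], [.z, .z, .z, .z, .z, .z, .z, .z, .z, .z, .z, .o, .z, .z], [.z, .z, .z, .z, .z, .z, .z, .z, .z, .z, .z, .z, .o, .z], [.z, .z, .z, .z, .z, .z, .z, .z, .z, .z, .z, .z, .z, .o]],
  [[.o, .z, .z, .z, .z, .z, .z, .z, .z, .z, .z, .z, .w, .z], [.z, .o, .z, .z, .z, .z, .z, .z, .z, .z, .z, .z, .w, .z], [.z, .z, .o, .z, .z, .z, .z, .w, .z, .z, .z, .z, .z, .z], [.w, .w, .z, .o, .z, .z, .z, .z, .z, .z, .z, .z, .v, .z], [.z, .z, .z, .z, .o, .z, .z, .z, .z, .w, .z, .z, .z, .z], [.z, .z, .z, .z, .z, .o, .z, .z, .z, .z, .z, .z, .z, .z], [.z, .z, .z, .z, .z, .z, .o, .z, .z, .z, .z, .w, .z, .z], [.z, .z, .z, .z, .z, .z, .z, .o, .z, .z, .z, .z, .z, .z], [.z, .z, .z, .z, .z, .z, .z, .z, .o, .z, .z, .z, .z, .w], [.z, .z, .z, .z, .z, .z, .z, .z, .z, .o, .z,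 .z, .z, .z], [.z, .z, .z, .z, .z, .z, .z, .z, .z, .z, .o, .z, .z, .z], [.z, .z, .z, .z, .z, .z, .z, .z, .z, .z, .z, .o, .z, .z], [.z, .z, .z, .z, .z, .z, .z, .z, .z, .z, .z, .z, .o, .z], [.z, .z, .z, .z, .z, .z, .z, .z, .z, .z, .z, .z, .z, .o]],
  [[.o, .z, .z, .z, .z, .z, .z, .z, .z, .z, .z, .z, .z, .z], [.z, .o, .z, .z, .z, .z, .z, .z, .z, .z, .z, .o, .z, .z], [.z, .z, .o, .z, .z, .o, .z, .z, .z, .o, .z, .z, .o, .z], [.z, .z, .z, .o, .z, .z, .o, .z, .z, .z, .o, .z, .z, .o], [.o, .z, .z, .z, .o, .z, .z, .z, .z, .z, .z, .o, .z, .z], [.z, .z, .z, .z, .z, .o, .z, .z, .z, .z, .z, .z, .o, .z], [.z, .z, .z, .z, .z, .z, .o, .z, .z, .z, .z, .z, .z, .o], [.z, .z, .z, .z, .z, .z, .z, .o, .z, .z, .z, .z, .z, .z], [.z, .z, .z, .z, .z, .z, .z, .z, .o, .z, .z, .z, .z, .z], [.z, .z, .z, .z, .z, .z, .z, .z, .z, .o,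 .z, .z, .o, .z], [.z, .z, .z, .z, .z, .z, .z, .z, .z, .z, .o, .z, .z, .o], [.z, .z, .z, .z, .z, .z, .z, .z, .z, .z, .z, .o, .z, .z], [.z, .z, .z, .z, .z, .z, .z, .z, .z, .z, .z, .z, .o, .z], [.z, .z, .z, .z, .z, .z, .z, .z, .z, .z, .z, .z, .z, .o]],
  [[.o, .z, .z, .z, .z, .z, .z, .z, .z, .z, .z, .z, .z, .z], [.z, .o, .z, .z, .z, .z, .z, .z, .z, .z, .z, .w, .z, .z], [.z, .z, .o, .z, .z, .w, .z, .z, .z, .v, .z, .z, .o, .z], [.z, .z, .z, .o, .z, .z, .w, .z, .z, .z, .v, .z, .z, .o], [.w, .z, .z, .z, .o, .z, .z, .z, .z, .z, .z, .v, .z, .z], [.z, .z, .z, .z, .z, .o, .z, .z, .z, .z, .z, .z, .v, .z], [.z, .z, .z, .z, .z, .z, .o, .z, .z, .z, .z, .z, .z, .v], [.z, .z, .z, .z, .z, .z, .z, .o, .z, .z, .z, .z, .z, .z], [.z, .z, .z, .z, .z, .z, .z, .z, .o, .z, .z, .z, .z, .z], [.z, .z, .z, .z, .z, .z, .z, .z, .z,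 .o, .z, .z, .w, .z], [.z, .z, .z, .z, .z, .z, .z, .z, .z, .z, .o, .z, .z, .w], [.z, .z, .z, .z, .z, .z, .z, .z, .z, .z, .z, .o, .z, .z], [.z, .z, .z, .z, .z, .z, .z, .z, .z, .z, .z, .z, .o, .z], [.z, .z, .z, .z, .z, .z, .z, .z, .z, .z, .z, .z, .z, .o]],
  [[.o, .z, .z, .z, .z, .z, .z, .z, .z, .z, .o, .z, .z, .z], [.z, .o, .z, .z, .z, .z, .z, .z, .z, .z, .o, .z, .z, .z], [.z, .z, .o, .z, .o, .z, .o, .z, .o, .z, .z, .z, .z, .z], [.z, .z, .z, .o, .z, .z, .z, .z, .z, .z, .z, .z, .z, .z], [.z, .z, .z, .z, .o, .z, .z, .z, .o, .z, .z, .z, .z, .z], [.o, .o, .z, .z, .z, .o, .z, .z, .z, .z, .o, .z, .z, .z], [.z, .z, .z, .z, .z, .z, .o, .z, .o, .z, .z, .z, .z, .z], [.z, .z, .z, .z, .z, .z, .z, .o, .z, .o, .z, .o, .z, .o], [.z, .z, .z, .z, .z, .z, .z, .z, .o, .z, .z, .z, .z, .z], [.z, .z, .z, .z, .z, .z, .z, .z,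 .z, .o, .z, .z, .z, .o], [.z, .z, .z, .z, .z, .z, .z, .z, .z, .z, .o, .z, .z, .z], [.z, .z, .z, .z, .z, .z, .z, .z, .z, .z, .z, .o, .z, .o], [.z, .z, .z, .z, .z, .z, .z, .z, .z, .z, .z, .z, .o, .z], [.z, .z, .z, .z, .z, .z, .z, .z, .z, .z, .z, .z, .z, .o]],
  [[.o, .z, .z, .z, .z, .z, .z, .z, .z, .z, .w, .z, .z, .z], [.z, .o, .z, .z, .z, .z, .z, .z, .z, .z, .w, .z, .z, .z], [.z, .z, .o, .z, .w, .z, .v, .z, .o, .z, .z, .z, .z, .z], [.z, .z, .z, .o, .z, .z, .z, .z, .z, .z, .z, .z, .z, .z], [.z, .z, .z, .z, .o, .z, .z, .z, .v, .z, .z, .z, .z, .z], [.w, .w, .z, .z, .z, .o, .z, .z, .z, .z, .v, .z, .z, .z], [.z, .z, .z, .z, .z, .z, .o, .z, .w, .z, .z, .z, .z, .z], [.z, .z, .z, .z, .z, .z, .z, .o, .z, .w, .z, .v, .z, .o], [.z, .z, .z, .z, .z, .z, .z, .z, .o, .z, .z, .z, .z, .z], [.z, .z, .z, .z, .z, .z, .z,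 .z, .z, .o, .z, .z, .z, .v], [.z, .z, .z, .z, .z, .z, .z, .z, .z, .z, .o, .z, .z, .z], [.z, .z, .z, .z, .z, .z, .z, .z, .z, .z, .z, .o, .z, .w], [.z, .z, .z, .z, .z, .z, .z, .z, .z, .z, .z, .z, .o, .z], [.z, .z, .z, .z, .z, .z, .z, .z, .z, .z, .z, .z, .z, .o]],
  [[.o, .z, .z, .z, .z, .z, .z, .z, .z, .o, .z, .z, .z, .z], [.z, .o, .z, .z, .z, .z, .z, .z, .z, .z, .z, .z, .z, .z], [.z, .z, .o, .z, .z, .z, .z, .z, .z, .z, .z, .z, .z, .z], [.z, .z, .z, .o, .o, .o, .z, .o, .z, .z, .z, .z, .z, .z], [.z, .z, .z, .z, .o, .z, .z, .o, .z, .z, .z, .z, .z, .z], [.z, .z, .z, .z, .z, .o, .z, .o, .z, .z, .z, .z, .z, .z], [.z, .o, .z, .z, .z, .z, .o, .z, .z, .o, .z, .z, .z, .z], [.z, .z, .z, .z, .z, .z, .z, .o, .z, .z, .z, .z, .z, .z], [.z, .z, .z, .z, .z, .z, .z, .z, .o, .z, .o, .o, .o, .z], [.z, .z, .z, .z, .z, .z,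 .z, .z, .z, .o, .z, .z, .z, .z], [.z, .z, .z, .z, .z, .z, .z, .z, .z, .z, .o, .z, .o, .z], [.z, .z, .z, .z, .z, .z, .z, .z, .z, .z, .z, .o, .o, .z], [.z, .z, .z, .z, .z, .z, .z, .z, .z, .z, .z, .z, .o, .z], [.z, .z, .z, .z, .z, .z, .z, .z, .z, .z, .z, .z, .z, .o]],
  [[.o, .z, .z, .z, .z, .z, .z, .z, .z, .w, .z, .z, .z, .z], [.z, .o, .z, .z, .z, .z, .z, .z, .z, .z, .z, .z, .z, .z], [.z, .z, .o, .z, .z, .z, .z, .z, .z, .z, .z, .z, .z, .z], [.z, .z, .z, .o, .w, .v, .z, .o, .z, .z, .z, .z, .z, .z], [.z, .z, .z, .z, .o, .z, .z, .v, .z, .z, .z, .z, .z, .z], [.z, .z, .z, .z, .z, .o, .z, .w, .z, .z, .z, .z, .z, .z], [.z, .w, .z, .z, .z, .z, .o, .z, .z, .v, .z, .z, .z, .z], [.z, .z, .z, .z, .z, .z, .z, .o, .z, .z, .z, .z, .z, .z], [.z, .z, .z, .z, .z, .z, .z, .z, .o, .z, .w, .v, .o, .z], [.z, .z, .z, .z, .z,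 .z, .z, .z, .z, .o, .z, .z, .z, .z], [.z, .z, .z, .z, .z, .z, .z, .z, .z, .z, .o, .z, .v, .z], [.z, .z, .z, .z, .z, .z, .z, .z, .z, .z, .z, .o, .w, .z], [.z, .z, .z, .z, .z, .z, .z, .z, .z, .z, .z, .z, .o, .z], [.z, .z, .z, .z, .z, .z, .z, .z, .z, .z, .z, .z, .z, .o]],
  [[.o, .z, .z, .z, .z, .z, .z, .z, .z, .z, .z, .z, .z, .z], [.z, .o, .z, .z, .z, .z, .z, .z, .o, .z, .z, .z, .z, .z], [.z, .z, .o, .o, .z, .z, .z, .z, .z, .z, .z, .z, .z, .z], [.z, .z, .z, .o, .z, .z, .z, .z, .z, .z, .z, .z, .z, .z], [.z, .z, .z, .z, .o, .z, .z, .z, .z, .z, .z, .z, .z, .z], [.z, .z, .z, .z, .z, .o, .o, .z, .z, .z, .z, .z, .z, .z], [.z, .z, .z, .z, .z, .z, .o, .z, .z, .z, .z, .z, .z, .z], [.o, .z, .z, .z, .z, .z, .z, .o, .o, .z, .z, .z, .z, .z], [.z, .z, .z, .z, .z, .z, .z, .z, .o, .z, .z, .z, .z, .z], [.z, .z, .z, .z,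 .z, .z, .z, .z, .z, .o, .o, .z, .z, .z], [.z, .z, .z, .z, .z, .z, .z, .z, .z, .z, .o, .z, .z, .z], [.z, .z, .z, .z, .z, .z, .z, .z, .z, .z, .z, .o, .z, .z], [.z, .z, .z, .z, .z, .z, .z, .z, .z, .z, .z, .z, .o, .o], [.z, .z, .z, .z, .z, .z, .z, .z, .z, .z, .z, .z, .z, .o]],
  [[.o, .z, .z, .z, .z, .z, .z, .z, .z, .z, .z, .z, .z, .z], [.z, .o, .z, .z, .z, .z, .z, .z, .w, .z, .z, .z, .z, .z], [.z, .z, .o, .w, .z, .z, .z, .z, .z, .z, .z, .z, .z, .z], [.z, .z, .z, .o, .z, .z, .z, .z, .z, .z, .z, .z, .z, .z], [.z, .z, .z, .z, .o, .z, .z, .z, .z, .z, .z, .z, .z, .z], [.z, .z, .z, .z, .z, .o, .w, .z, .z, .z, .z, .z, .z, .z], [.z, .z, .z, .z, .z, .z, .o, .z, .z, .z, .z, .z, .z, .z], [.w, .z, .z, .z, .z, .z, .z, .o, .v, .z, .z, .z, .z, .z], [.z, .z, .z, .z, .z, .z, .z, .z, .o, .z, .z, .z, .z, .z], [.z, .z, .z,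 .z, .z, .z, .z, .z, .z, .o, .w, .z, .z, .z], [.z, .z, .z, .z, .z, .z, .z, .z, .z, .z, .o, .z, .z, .z], [.z, .z, .z, .z, .z, .z, .z, .z, .z, .z, .z, .o, .z, .z], [.z, .z, .z, .z, .z, .z, .z, .z, .z, .z, .z, .z, .o, .w], [.z, .z, .z, .z, .z, .z, .z, .z, .z, .z, .z, .z, .z, .o]],
  [[.o, .z, .z, .z, .z, .z, .z, .z, .z, .z, .z, .z, .z, .z], [.z, .o, .z, .z, .z, .z, .z, .o, .z, .z, .z, .z, .z, .z], [.z, .z, .o, .z, .z, .z, .z, .z, .z, .z, .z, .z, .z, .z], [.z, .z, .o, .o, .z, .z, .z, .z, .z, .z, .z, .z, .z, .z], [.z, .z, .z, .z, .o, .z, .z, .z, .z, .z, .z, .z, .z, .z], [.z, .z, .z, .z, .z, .o, .z, .z, .z, .z, .z, .z, .z, .z], [.z, .z, .z, .z, .z, .o, .o, .z, .z, .z, .z, .z, .z, .z], [.z, .z, .z, .z, .z, .z, .z, .o, .z, .z, .z, .z, .z, .z], [.o, .z, .z, .z, .z, .z, .z, .o, .o, .z, .z, .z, .z, .z], [.z, .z,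 .z, .z, .z, .z, .z, .z, .z, .o, .z, .z, .z, .z], [.z, .z, .z, .z, .z, .z, .z, .z, .z, .o, .o, .z, .z, .z], [.z, .z, .z, .z, .z, .z, .z, .z, .z, .z, .z, .o, .z, .z], [.z, .z, .z, .z, .z, .z, .z, .z, .z, .z, .z, .z, .o, .z], [.z, .z, .z, .z, .z, .z, .z, .z, .z, .z, .z, .z, .o, .o]],
  [[.o, .z, .z, .z, .z, .z, .z, .z, .z, .z, .z, .z, .z, .z], [.z, .o, .z, .z, .z, .z, .z, .w, .z, .z, .z, .z, .z, .z], [.z, .z, .o, .z, .z, .z, .z, .z, .z, .z, .z, .z, .z, .z], [.z, .z, .w, .o, .z, .z, .z, .z, .z, .z, .z, .z, .z, .z], [.z, .z, .z, .z, .o, .z, .z, .z, .z, .z, .z, .z, .z, .z], [.z, .z, .z, .z, .z, .o, .z, .z, .z, .z, .z, .z, .z, .z], [.z, .z, .z, .z, .z, .w, .o, .z, .z, .z, .z, .z, .z, .z], [.z, .z, .z, .z, .z, .z, .z, .o, .z, .z, .z, .z, .z, .z], [.w, .z, .z, .z, .z, .z, .z, .v, .o, .z, .z, .z, .z, .z], [.z,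 .z, .z, .z, .z, .z, .z, .z, .z, .o, .z, .z, .z, .z], [.z, .z, .z, .z, .z, .z, .z, .z, .z, .w, .o, .z, .z, .z], [.z, .z, .z, .z, .z, .z, .z, .z, .z, .z, .z, .o, .z, .z], [.z, .z, .z, .z, .z, .z, .z, .z, .z, .z, .z, .z, .o, .z], [.z, .z, .z, .z, .z, .z, .z, .z, .z, .z, .z, .z, .w, .o]],
  [[.o, .z, .z, .z, .z, .z, .o, .z, .z, .z, .z, .z, .z, .z], [.z, .o, .z, .z, .z, .z, .z, .z, .z, .z, .z, .z, .z, .z], [.z, .z, .o, .z, .z, .z, .z, .z, .z, .z, .z, .z, .z, .z], [.z, .z, .z, .o, .z, .z, .z, .z, .z, .z, .z, .z, .z, .z], [.z, .z, .z, .o, .o, .z, .z, .z, .z, .z, .z, .z, .z, .z], [.z, .z, .z, .o, .z, .o, .z, .z, .z, .z, .z, .z, .z, .z], [.z, .z, .z, .z, .z, .z, .o, .z, .z, .z, .z, .z, .z, .z], [.z, .z, .z, .o, .o, .o, .z, .o, .z, .z, .z, .z, .z, .z], [.z, .z, .z, .z, .z, .z, .z, .z, .o, .z, .z, .z, .z, .z],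 [.z, .o, .z, .z, .z, .z, .o, .z, .z, .o, .z, .z, .z, .z], [.z, .z, .z, .z, .z, .z, .z, .z, .o, .z, .o, .z, .z, .z], [.z, .z, .z, .z, .z, .z, .z, .z, .o, .z, .z, .o, .z, .z], [.z, .z, .z, .z, .z, .z, .z, .z, .o, .z, .o, .o, .o, .z], [.z, .z, .z, .z, .z, .z, .z, .z, .z, .z, .z, .z, .z, .o]],
  [[.o, .z, .z, .z, .z, .z, .w, .z, .z, .z, .z, .z, .z, .z], [.z, .o, .z, .z, .z, .z, .z, .z, .z, .z, .z, .z, .z, .z], [.z, .z, .o, .z, .z, .z, .z, .z, .z, .z, .z, .z, .z, .z], [.z, .z, .z, .o, .z, .z, .z, .z, .z, .z, .z, .z, .z, .z], [.z, .z, .z, .w, .o, .z, .z, .z, .z, .z, .z, .z, .z, .z], [.z, .z, .z, .v, .z, .o, .z, .z, .z, .z, .z, .z, .z, .z], [.z, .z, .z, .z, .z, .z, .o, .z, .z, .z, .z, .z, .z, .z], [.z, .z, .z, .o, .v, .w, .z, .o, .z, .z, .z, .z, .z, .z], [.z, .z, .z, .z, .z, .z, .z, .z, .o, .z, .z, .z, .z,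 .z], [.z, .w, .z, .z, .z, .z, .v, .z, .z, .o, .z, .z, .z, .z], [.z, .z, .z, .z, .z, .z, .z, .z, .w, .z, .o, .z, .z, .z], [.z, .z, .z, .z, .z, .z, .z, .z, .v, .z, .z, .o, .z, .z], [.z, .z, .z, .z, .z, .z, .z, .z, .o, .z, .v, .w, .o, .z], [.z, .z, .z, .z, .z, .z, .z, .z, .z, .z, .z, .z, .z, .o]],
  [[.o, .z, .z, .z, .z, .o, .z, .z, .z, .z, .z, .z, .z, .z], [.z, .o, .z, .z, .z, .o, .z, .z, .z, .z, .z, .z, .z, .z], [.z, .z, .o, .z, .z, .z, .z, .z, .z, .z, .z, .z, .z, .z], [.z, .z, .z, .o, .z, .z, .z, .z, .z, .z, .z, .z, .z, .z], [.z, .z, .o, .z, .o, .z, .z, .z, .z, .z, .z, .z, .z, .z], [.z, .z, .z, .z, .z, .o, .z, .z, .z, .z, .z, .z, .z, .z], [.z, .z, .o, .z, .z, .z, .o, .z, .z, .z, .z, .z, .z, .z], [.z, .z, .z, .z, .z, .z, .z, .o, .z, .z, .z, .z, .z, .z], [.z, .z, .o, .z, .o, .z, .o, .z, .o, .z, .z, .z,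 .z, .z], [.z, .z, .z, .z, .z, .z, .z, .o, .z, .o, .z, .z, .z, .z], [.o, .o, .z, .z, .z, .o, .z, .z, .z, .z, .o, .z, .z, .z], [.z, .z, .z, .z, .z, .z, .z, .o, .z, .z, .z, .o, .z, .z], [.z, .z, .z, .z, .z, .z, .z, .z, .z, .z, .z, .z, .o, .z], [.z, .z, .z, .z, .z, .z, .z, .o, .z, .o, .z, .o, .z, .o]],
  [[.o, .z, .z, .z, .z, .w, .z, .z, .z, .z, .z, .z, .z, .z], [.z, .o, .z, .z, .z, .w, .z, .z, .z, .z, .z, .z, .z, .z], [.z, .z, .o, .z, .z, .z, .z, .z, .z, .z, .z, .z, .z, .z], [.z, .z, .z, .o, .z, .z, .z, .z, .z, .z, .z, .z, .z, .z], [.z, .z, .w, .z, .o, .z, .z, .z, .z, .z, .z, .z, .z, .z], [.z, .z, .z, .z, .z, .o, .z, .z, .z, .z, .z, .z, .z, .z], [.z, .z, .v, .z, .z, .z, .o, .z, .z, .z, .z, .z, .z, .z], [.z, .z, .z, .z, .z, .z, .z, .o, .z, .z, .z, .z, .z, .z], [.z, .z, .o, .z, .v, .z, .w, .z, .o, .z, .z,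 .z, .z, .z], [.z, .z, .z, .z, .z, .z, .z, .w, .z, .o, .z, .z, .z, .z], [.w, .w, .z, .z, .z, .v, .z, .z, .z, .z, .o, .z, .z, .z], [.z, .z, .z, .z, .z, .z, .z, .v, .z, .z, .z, .o, .z, .z], [.z, .z, .z, .z, .z, .z, .z, .z, .z, .z, .z, .z, .o, .z], [.z, .z, .z, .z, .z, .z, .z, .o, .z, .v, .z, .w, .z, .o]],
  [[.o, .z, .z, .z, .z, .z, .z, .z, .z, .z, .z, .z, .z, .z], [.z, .o, .z, .z, .o, .z, .z, .z, .z, .z, .z, .z, .z, .z], [.z, .z, .o, .z, .z, .z, .z, .z, .z, .z, .z, .z, .z, .z], [.z, .z, .z, .o, .z, .z, .z, .z, .z, .z, .z, .z, .z, .z], [.z, .z, .z, .z, .o, .z, .z, .z, .z, .z, .z, .z, .z, .z], [.z, .z, .o, .z, .z, .o, .z, .z, .z, .z, .z, .z, .z, .z], [.z, .z, .z, .o, .z, .z, .o, .z, .z, .z, .z, .z, .z, .z], [.z, .z, .z, .z, .z, .z, .z, .o, .z, .z, .z, .z, .z, .z], [.z, .z, .z, .z, .z, .z, .z, .z, .o, .z,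 .z, .z, .z, .z], [.z, .z, .o, .z, .z, .z, .z, .z, .z, .o, .z, .z, .z, .z], [.z, .z, .z, .o, .z, .z, .z, .z, .z, .z, .o, .z, .z, .z], [.o, .z, .z, .z, .o, .z, .z, .z, .z, .z, .z, .o, .z, .z], [.z, .z, .o, .z, .z, .o, .z, .z, .z, .o, .z, .z, .o, .z], [.z, .z, .z, .o, .z, .z, .o, .z, .z, .z, .o, .z, .z, .o]],
  [[.o, .z, .z, .z, .z, .z, .z, .z, .z, .z, .z, .z, .z, .z], [.z, .o, .z, .z, .w, .z, .z, .z, .z, .z, .z, .z, .z, .z], [.z, .z, .o, .z, .z, .z, .z, .z, .z, .z, .z, .z, .z, .z], [.z, .z, .z, .o, .z, .z, .z, .z, .z, .z, .z, .z, .z, .z], [.z, .z, .z, .z, .o, .z, .z, .z, .z, .z, .z, .z, .z, .z], [.z, .z, .w, .z, .z, .o, .z, .z, .z, .z, .z, .z, .z, .z], [.z, .z, .z, .w, .z, .z, .o, .z, .z, .z, .z, .z, .z, .z], [.z, .z, .z, .z, .z, .z, .z, .o, .z, .z, .z, .z, .z, .z], [.z, .z, .z, .z, .z, .z, .z, .z, .o,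 .z, .z, .z, .z, .z], [.z, .z, .v, .z, .z, .z, .z, .z, .z, .o, .z, .z, .z, .z], [.z, .z, .z, .v, .z, .z, .z, .z, .z, .z, .o, .z, .z, .z], [.w, .z, .z, .z, .v, .z, .z, .z, .z, .z, .z, .o, .z, .z], [.z, .z, .o, .z, .z, .v, .z, .z, .z, .w, .z, .z, .o, .z], [.z, .z, .z, .o, .z, .z, .v, .z, .z, .z, .w, .z, .z, .o]],
  [[.o, .z, .z, .o, .z, .z, .z, .z, .z, .z, .z, .z, .z, .z], [.z, .o, .z, .o, .z, .z, .z, .z, .z, .z, .z, .z, .z, .z], [.z, .z, .o, .z, .z, .z, .z, .z, .z, .z, .z, .z, .z, .z], [.z, .z, .z, .o, .z, .z, .z, .z, .z, .z, .z, .z, .z, .z], [.z, .z, .z, .z, .o, .z, .z, .z, .z, .z, .z, .z, .z, .z], [.z, .z, .z, .z, .z, .o, .z, .z, .z, .z, .z, .z, .z, .z], [.z, .z, .z, .z, .z, .z, .o, .z, .z, .z, .z, .z, .z, .z], [.z, .z, .o, .z, .z, .z, .z, .o, .z, .z, .z, .z, .z, .z], [.z, .z, .z, .z, .z, .z, .z, .z,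 .o, .z, .z, .z, .z, .z], [.z, .z, .z, .z, .o, .z, .z, .z, .z, .o, .z, .z, .z, .z], [.z, .z, .z, .z, .z, .z, .z, .z, .z, .z, .o, .z, .z, .z], [.z, .z, .z, .z, .z, .z, .o, .z, .z, .z, .z, .o, .z, .z], [.o, .o, .z, .o, .z, .z, .z, .z, .z, .z, .z, .z, .o, .z], [.z, .z, .z, .z, .z, .z, .z, .z, .o, .z, .z, .z, .z, .o]],
  [[.o, .z, .z, .w, .z, .z, .z, .z, .z, .z, .z, .z, .z, .z], [.z, .o, .z, .w, .z, .z, .z, .z, .z, .z, .z, .z, .z, .z], [.z, .z, .o, .z, .z, .z, .z, .z, .z, .z, .z, .z, .z, .z], [.z, .z, .z, .o, .z, .z, .z, .z, .z, .z, .z, .z, .z, .z], [.z, .z, .z, .z, .o, .z, .z, .z, .z, .z, .z, .z, .z, .z], [.z, .z, .z, .z, .z, .o, .z, .z, .z, .z, .z, .z, .z, .z], [.z, .z, .z, .z, .z, .z, .o, .z, .z, .z, .z, .z, .z, .z], [.z, .z, .w, .z, .z, .z, .z, .o, .z, .z, .z, .z, .z, .z], [.z, .z, .z, .z, .z, .z, .z,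 .z, .o, .z, .z, .z, .z, .z], [.z, .z, .z, .z, .w, .z, .z, .z, .z, .o, .z, .z, .z, .z], [.z, .z, .z, .z, .z, .z, .z, .z, .z, .z, .o, .z, .z, .z], [.z, .z, .z, .z, .z, .z, .w, .z, .z, .z, .z, .o, .z, .z], [.w, .w, .z, .v, .z, .z, .z, .z, .z, .z, .z, .z, .o, .z], [.z, .z, .z, .z, .z, .z, .z, .z, .w, .z, .z, .z, .z, .o]],
  [[.o, .z, .o, .z, .z, .z, .z, .z, .z, .z, .z, .z, .z, .z], [.z, .o, .z, .z, .z, .z, .z, .z, .z, .z, .z, .z, .z, .z], [.z, .z, .o, .z, .z, .z, .z, .z, .z, .z, .z, .z, .z, .z], [.z, .z, .z, .o, .z, .z, .z, .z, .z, .z, .z, .z, .z, .z], [.z, .z, .z, .z, .o, .z, .z, .z, .z, .z, .z, .z, .z, .z], [.z, .z, .z, .z, .z, .o, .z, .z, .z, .z, .z, .z, .z, .z], [.z, .z, .z, .z, .z, .z, .o, .z, .z, .z, .z, .z, .z, .z], [.z, .z, .z, .z, .z, .z, .z, .o, .z, .z, .z, .z, .z, .z], [.z, .z, .z, .o, .z, .z,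 .z, .z, .o, .z, .z, .z, .z, .z], [.z, .z, .z, .z, .z, .z, .z, .z, .z, .o, .z, .z, .z, .z], [.z, .z, .z, .z, .o, .z, .z, .z, .z, .z, .o, .z, .z, .z], [.z, .z, .z, .z, .z, .o, .z, .z, .z, .z, .z, .o, .z, .z], [.z, .z, .z, .z, .z, .z, .z, .o, .z, .z, .z, .z, .o, .z], [.z, .o, .o, .z, .z, .z, .z, .z, .z, .z, .z, .z, .z, .o]],
  [[.o, .z, .w, .z, .z, .z, .z, .z, .z, .z, .z, .z, .z, .z], [.z, .o, .z, .z, .z, .z, .z, .z, .z, .z, .z, .z, .z, .z], [.z, .z, .o, .z, .z, .z, .z, .z, .z, .z, .z, .z, .z, .z], [.z, .z, .z, .o, .z, .z, .z, .z, .z, .z, .z, .z, .z, .z], [.z, .z, .z, .z, .o, .z, .z, .z, .z, .z, .z, .z, .z, .z], [.z, .z, .z, .z, .z, .o, .z, .z, .z, .z, .z, .z, .z, .z], [.z, .z, .z, .z, .z, .z, .o, .z, .z, .z, .z, .z, .z, .z], [.z, .z, .z, .z, .z, .z, .z, .o, .z, .z, .z, .z, .z, .z], [.z, .z, .z, .w, .z,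 .z, .z, .z, .o, .z, .z, .z, .z, .z], [.z, .z, .z, .z, .z, .z, .z, .z, .z, .o, .z, .z, .z, .z], [.z, .z, .z, .z, .w, .z, .z, .z, .z, .z, .o, .z, .z, .z], [.z, .z, .z, .z, .z, .w, .z, .z, .z, .z, .z, .o, .z, .z], [.z, .z, .z, .z, .z, .z, .z, .w, .z, .z, .z, .z, .o, .z], [.z, .w, .v, .z, .z, .z, .z, .z, .z, .z, .z, .z, .z, .o]]]

end CfsgLib.Coset.G24
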