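import Cfsg.Agent.Coset.G24.Simple
import Cfsg.Agent.Coset.G24.MatAction
import Cfsg.Agent.Coset.G24.XData
import Cfsg.Agent.Coset.G24.MatData
import Cfsg.Agent.Chev.GoodAll
import Cfsg.Agent.Chev.Card
import Cfsg.Agent.Chev.OrdG2
import Cfsg.Prelude.Def_ChevWords
import Mathlib.Tactic.IntervalCases

/-! The group presented by the relators of `⟨a, …, f⟩` is the Chevalley group of type G₂ over four elements. -/

set_option autoImplicit false
set_option maxRecDepth 100000
set_option Elab.async false

namespace CfsgLib.Coset.G24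

open Cfsg.Lie Matrix

/-- The coordinate numbering. -/
abbrev e : chevG2.Idx ≃ Fin 14 := finSumFinEquiv

/-- The parameter of a root element. -/
def par (a : Nat) : F4 := if a % 2 = 0 then F4.o else F4.w

/-- The root elements used. -/
noncomputable def Lx : List (GL chevG2.Idx F4) :=
  (List.range 24).map fun a => CfsgLib.Chev.good_G2.full.x (a / 2) (par a)

theorem len_Lx : (Lx).length = 24 := by simp [Lx]

theorem root_rows : ∀ a < 24,
    rootL.getD a [] = rowsOf e (chevG2.x F4 (a / 2) (par a)) := by
  intro a ha
  interval_cases a <;> decide +kernel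

theorem rows_Lx (a : Nat) (ha : a < (Lx).length) :
    rootL.getD a [] = rowsOf e (fl Lx a : GL chevG2.Idx F4).val := by
  rw [len_Lx] at ha
  rw [root_rows a ha, fl, Lx, List.getD_eq_getElem _ _ (by simpa using ha), List.getElem_map,
    List.getElem_range, CfsgLib.Chev.Tab.Full.coe_x']

theorem Lx_mem : ∀ x ∈ Lx, x ∈ chevG2.group F4 := by
  intro x hx
  obtain ⟨a, ha, rfl⟩ := List.mem_map.mp hx
  have ha' : a / 2 < chevG2.nroots := by
    have := List.mem_range.mp ha
    show a / 2 < 12
    omega
  refine Subgroup.subset_closure ⟨⟨a / 2, ha'⟩, par a, ?_⟩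
  rw [CfsgLib.Chev.Tab.Full.coe_x', ChevalleyDatum.x, dif_pos ha']

/-- The images of the generators. -/
noncomputable def Li : List (GL chevG2.Idx F4) := wordsX.map (ev Lx)

theorem len_Li : (Li).length = 6 := by simp [Li, wordsX]

/-- The matrix with the listed rows. -/
def ofRows (rows : List (List F4)) : Matrix chevG2.Idx chevG2.Idx F4 :=
  Matrix.of fun i j => (rows.getD (e i) []).getD (e j) 0

theorem gen_check : ∀ l < 6, rowsOf e (ofRows (gensL.getD l [])) = gensL.getD l [] ∧
    checkCols rootL (wordsX.getD l []) 14 (gensL.getD l []) = true ∧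
    ∀ a ∈ wordsX.getD l [], a < 24 := by
  intro l hl
  interval_cases l <;>
    exact ⟨by decide +kernel, by decide +kernel, by decide +kernel⟩

theorem rows_Li (l : Nat) (hl : l < (Li).length) :
    gensL.getD l [] = rowsOf e (fl Li l : GL chevG2.Idx F4).val := by
  rw [len_Li] at hl
  obtain ⟨h1, h2, h3⟩ := gen_check l hl
  have hfl : fl Li l = ev Lx (wordsX.getD l []) := by
    have hl' : l < wordsX.length := by simpa [wordsX] using hl
    simp [fl, Li, List.getD_eq_getElem?_getD, List.getElem?_eq_getElem hl']
  rw [hfl, ev_eq_of_checkCols e rows_Lx (fun a ha => len_Lx.symm ▸ h3 a ha)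
    (ofRows (gensL.getD l [])) (by rw [h1]; exact h2), h1]

theorem rels_check : rels.all (fun w =>
    checkCols gensL w 14 (rowsOf e (1 : Matrix chevG2.Idx chevG2.Idx F4))) = true := by
  decide +kernel

theorem rels_letters : ∀ w ∈ rels, ∀ l ∈ w, l < 6 := by decide +kernel

theorem img_rels : ∀ w ∈ rels, ev Li w = 1 := fun w hw =>
  Units.ext (ev_eq_of_checkCols e rows_Li (fun l hl => len_Li.symm ▸ rels_letters w hw l hl) 1
    (List.all_eq_true.mp rels_check w hw))

/-- The map to the Chevalley group. -/
noncomputable def φ : P →* GL chevG2.Idx F4 := numHom len_Li img_rels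

theorem range_le : φ.range ≤ chevG2.group F4 := by
  rw [φ, range_numHom, Subgroup.closure_le]
  intro x hx
  obtain ⟨w, -, rfl⟩ := List.mem_map.mp hx
  exact (Subgroup.closure_le _).mpr Lx_mem (ev_mem_closure w)
where
  ev_mem_closure (w : List Nat) : ev Lx w ∈ Subgroup.closure {x | x ∈ Lx} := by
    induction w with
    | nil => simp
    | cons a w ih => rw [ev_cons]; exact mul_mem (mem_closure_fl a) ih

theorem φ_injective : Function.Injective φ := by
  haveI := isSimple
  rcases (φ.normal_ker).eq_bot_or_eq_top with h | h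
  · exact (MonoidHom.ker_eq_bot_iff φ).mp h
  · exfalso
    have h1 : φ (fl Lp 0) = 1 := MonoidHom.mem_ker.mp (h ▸ Subgroup.mem_top (fl Lp 0))
    rw [φ, numHom_fl] at h1
    have h2 := rows_Li 0 (by rw [len_Li]; norm_num)
    rw [h1, Units.val_one] at h2
    have h3 : beqL ((gensL.getD 0 []).flatten)
        ((rowsOf e (1 : Matrix chevG2.Idx chevG2.Idx F4)).flatten) = false := by decide +kernel
    rw [h2] at h3
    have : ∀ s : List F4, beqL s s = true := by
      intro s; induction s with
      | nil => rfl
      | cons a s ih => simp [beqL, ih]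
    rw [this] at h3
    exact Bool.noConfusion h3

theorem card_chev : Nat.card (chevG2.group F4) = 251596800 := by
  have h := CfsgLib.Chev.good_G2.card_group_eq (F := F4) CfsgLib.Chev.G2Data.levels_ok
  have h2 := CfsgLib.Chev.good_G2.card_diagonal (F := F4) CfsgLib.Chev.G2Data.smith_ok
  rw [F4.card_eq] at h h2
  have h3 : ((CfsgLib.Chev.G2Data.smith.d.map fun d => Nat.gcd (4 - 1) d).prod) = 1 := by
    decide +kernel
  rw [h3, one_mul] at h2
  rw [h, h2]
  decide +kernel

/-- The isomorphism. -/
theorem nonempty_equiv : Nonempty (P ≃* chevG2.group F4) := by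
  have := card_le.1
  let f : P →* chevG2.group F4 := φ.codRestrict _ fun x => range_le ⟨x, rfl⟩
  have hf : Function.Injective f := fun a b hab => φ_injective (congrArg Subtype.val hab)
  have hb : Function.Bijective f :=
    hf.bijective_of_nat_card_le (by rw [card_chev, card_and_injective.1])
  exact ⟨MulEquiv.ofBijective f hb⟩

end CfsgLib.Coset.G24
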