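/-!
The relators of `⟨a, …, f⟩` in `Cfsg.Spor.Suz`.
-/

namespace CfsgLib.Coset.G24

/-- The relators. -/
def rels : List (List Nat) := [[0, 0], [0, 1, 0, 1, 0, 1, 0, 1, 0, 1], [0, 2, 0, 2], [0, 3, 0, 3], [0, 4, 0, 4], [0, 5, 0, 5], [1, 1], [1, 2, 1, 2, 1, 2], [1, 3, 1, 3], [1, 4, 1, 4], [1, 5, 1, 5, 1, 5], [2, 2], [2, 3, 2, 3, 2, 3, 2, 3, 2, 3, 2, 3, 2, 3, 2, 3], [2, 4, 2, 4], [2, 5, 2, 5], [3, 3], [3, 4, 3, 4, 3, 4], [3, 5, 3, 5], [4, 4], [4, 5, 4, 5], [5, 5], [0, 3, 2, 3, 2, 3, 2, 3, 2], [0, 1, 2, 5, 0, 1, 2, 5, 0, 1, 2, 5, 0, 1, 2, 5, 0, 1, 2, 5], [1, 2, 3, 2, 3, 1, 2, 3, 2, 3, 1, 2, 3, 2, 3, 1, 2, 3, 2, 3, 1, 2, 3, 2, 3, 4, 1, 2, 3, 2, 3, 1, 2, 3, 2, 3, 1, 2, 3, 2, 3, 1, 2, 3, 2, 3, 1, 2, 3, 2,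 3, 4, 1, 2, 3, 2, 3, 1, 2, 3, 2, 3, 1, 2, 3, 2, 3, 1, 2, 3, 2, 3, 1, 2, 3, 2, 3, 4]]

/-- A word of order 13. -/
def u : List Nat := [4, 1, 0, 2, 3, 2, 3, 5, 1, 2]

end CfsgLib.Coset.G24
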