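import Cfsg.Agent.Coset.Table
import Cfsg.Agent.Coset.G24.Data
import Cfsg.Agent.Coset.G24.ColData

set_option autoImplicit false
set_option maxRecDepth 100000

namespace CfsgLib.Coset.G24.Col

/-- The relators with the collapsing word. -/
def crels : List (List Nat) := rels ++ [u]

theorem hR : checkRules crels subs R = true := by decide +kernel
theorem hdefs : checkDefs E 6 7 75 = true := by decide +kernel
theorem hsteps : checkChunks E id R 6 2 75 4 C = true := by decide +kernel
theorem htable : checkTable E id (75 + chunk * 4) 1 6 1 3 Rep Ref Tb = true := by decide +kernel

end CfsgLib.Coset.G24.Col
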