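import Cfsg.Agent.Coset.G24.Chev
import Cfsg.Agent.Coset.Suz.Main

/-! `⟨a, …, f⟩` in `Cfsg.Spor.Suz` is the Chevalley group of type G₂ over four elements. -/

set_option autoImplicit false
set_option maxRecDepth 100000

namespace CfsgLib.Coset.G24

theorem nonempty_in_Suz : Nonempty (Suz.H ≃* Cfsg.Lie.chevG2.group F4) := by
  obtain ⟨e⟩ := nonempty_equiv
  have := Suz.card_le.1
  have := card_le.1
  have hH : Suz.H = genBy Suz.Lg [0, 1, 2, 3, 4, 5] := genW_singletons [0, 1, 2, 3, 4, 5]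
  have hL : (lv Suz.Lg [0, 1, 2, 3, 4, 5]).length = 6 := by simp [lv]
  have hrels : ∀ w ∈ rels, ev (lv Suz.Lg [0, 1, 2, 3, 4, 5]) w = 1 := by
    intro w hw
    rw [ev_lv, Suz.len_Lg]
    have h : (rels.all fun w => Suz.rels.contains (w.map fun l => [0, 1, 2, 3, 4, 5].getD l 7)) =
        true := by decide +kernel
    exact Suz.ev_rels _ (List.contains_iff_mem.mp (List.all_eq_true.mp h w hw))
  have hT : Nat.card (genBy Suz.Lg [0, 1, 2, 3, 4, 5]) = 251596800 := by
    have h := Subgroup.card_mul_index (genBy Suz.Lg [0, 1, 2, 3, 4, 5])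
    rw [← hH, Suz.index_and_eq.1, Suz.card_and_injective.1] at h
    rw [← hH]
    omega
  exact ⟨(MulEquiv.subgroupCongr hH).trans
    ((numEquiv hL hrels (by rw [card_and_injective.1]; exact hT.ge)).symm.trans e)⟩

end CfsgLib.Coset.G24
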