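import Cfsg.Agent.Coset.Table
import Cfsg.Agent.Coset.G24.Data
import Cfsg.Agent.Coset.G24.TopData

set_option autoImplicit false
set_option maxRecDepth 100000
set_option Elab.async false

namespace CfsgLib.Coset.G24.Top

theorem hR : checkRules rels subs R = true := by decide +kernel
theorem hdefs : checkDefs E 6 10 854 = true := by decide +kernel
theorem hsteps : checkChunks E id R 6 6 854 35 C = true := by decide +kernel
theorem htable : checkTable E id (854 + chunk * 35) 416 6 9 3 Rep Ref Tb = true := by decide +kernel
theorem hperm : checkPerm id 416 6 9 3 Tb = true := by decide +kernel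
theorem hrels : checkRels 416 9 Tb rels = true := by decide +kernel
theorem htrans : checkTrans 416 6 9 Tb Par = true := by decide +kernel

end CfsgLib.Coset.G24.Top
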