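import Cfsg.Agent.Coset.Presented
import Cfsg.Agent.Coset.G24.Top
import Cfsg.Agent.Coset.G24.Col
import Cfsg.Agent.Coset.G24.OrbData
import Cfsg.Agent.Coset.Suz.L2
import Cfsg.Agent.Coset.Suz.L3
import Cfsg.Agent.Coset.Suz.L4

/-! The group presented by the relators of `⟨a, …, f⟩` in `Cfsg.Spor.Suz`: order and simplicity. -/

set_option autoImplicit false
set_option maxRecDepth 100000
set_option Elab.async false

namespace CfsgLib.Coset.G24

/-- The presented group. -/
abbrev P : Type := NumGr 6 rels

/-- The generators. -/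
noncomputable abbrev Lp : List P := numGens 6 rels

theorem len_Lp : (Lp).length = 6 := length_numGens

theorem sq_all (x : Nat) : fl Lp x * fl Lp x = 1 := sq_numGens (by decide +kernel) x

theorem inv_all (x : Nat) : fl Lp (id x) = (fl Lp x)⁻¹ := by
  rw [id, inv_eq_of_mul_eq_one_right (sq_all x)]

/-- The subgroup of index 416. -/
noncomputable abbrev H : Subgroup P := genW Lp Top.subs

theorem top_table : TableOK Lp H Top.E id 416 Top.Rep Top.Tb :=
  tableOK_of_check inv_all Top.hR (len_Lp.symm ▸ Top.hdefs) (len_Lp.symm ▸ Top.hsteps)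
    (len_Lp.symm ▸ Top.htable) ev_numGens (fun _ hw => ev_mem_genW hw)

theorem len_sig : (sigList Top.hperm).length = 6 := by simp [sigList]

theorem perm_rels : ∀ w ∈ rels, ev (sigList Top.hperm) w = 1 :=
  ev_sigList_eq_one Top.hperm Top.hrels (by decide +kernel)

/-- The action on 416 points. -/
noncomputable def ρ : P →* Equiv.Perm (Fin 416) := numHom len_sig perm_rels

theorem matches_ρ : Matches Lp ρ Top.Tb := by
  intro l hl i
  rw [ρ, numHom_fl, fl_sigList, sig_symm_apply Top.hperm (len_Lp ▸ hl)]

theorem index_and_eq : H.index = 416 ∧ H = pstab ρ ⟨0, by decide⟩ :=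
  exact_index top_table matches_ρ (by decide) (len_Lp.symm ▸ Top.htrans) closure_numGens
    (genW_le_pstab matches_ρ _ (by rw [len_Lp]; decide +kernel) (by decide +kernel))

theorem transitive (i : Fin 416) : ∃ g, ρ g ⟨0, by decide⟩ = i :=
  (matches_ρ.transitive (by decide) (len_Lp.symm ▸ Top.htrans) i).imp fun _ h => h.2

theorem level {S S' : List Nat} {rs subs : List (List Nat)} {E Rep Tb : Nat → Nat}
    {R : Tr (List Nat × Nat)} {d d' N nC n dn dk : Nat} {C Ref : Nat → Nat} (k : Nat)
    (hk : S.length = k)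
    (hc : checkLevel rels 6 S S' rs subs = true)
    (hR : checkRules rs subs R = true) (hd : checkDefs E k d' N = true)
    (hs : checkChunks E id R k d N nC C = true)
    (ht : checkTable E id (N + chunk * nC) n k dn dk Rep Ref Tb = true) :
    TableOK (lv Lp S) (genBy Lp S') E id n Rep Tb := by
  have hl : (lv Lp S).length = k := by simp [lv, hk]
  exact tableOK_of_check (inv_lv sq_all S) hR (hl.symm ▸ hd) (hl.symm ▸ hs) (hl.symm ▸ ht)
    (level_rels len_Lp hc ev_numGens) (level_subs len_Lp hc)

theorem card_le : Finite P ∧ Nat.card P ≤ 251596800 := by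
  have c2 : checkLevel rels 6 [0, 1, 2, 3, 4] [0, 1, 2, 3] Suz.L2.lrels Suz.L2.subs = true := by
    decide +kernel
  have c3 : checkLevel rels 6 [0, 1, 2, 3] [0, 2, 3] Suz.L3.lrels Suz.L3.subs = true := by
    decide +kernel
  have c4 : checkLevel rels 6 [0, 2, 3] [] Suz.L4.lrels Suz.L4.subs = true := by decide +kernel
  have hH : H = genBy Lp [0, 1, 2, 3, 4] := genW_singletons [0, 1, 2, 3, 4]
  have hm : Finite H ∧ Nat.card H ≤ 280 * (135 * (16 * 1)) := by
    rw [hH]
    exact level_card (level 5 rfl c2 Suz.L2.hR Suz.L2.hdefs Suz.L2.hsteps Suz.L2.htable)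
      (by decide) c2
      (level_card (level 4 rfl c3 Suz.L3.hR Suz.L3.hdefs Suz.L3.hsteps Suz.L3.htable)
        (by decide) c3
        (level_card (level 3 rfl c4 Suz.L4.hR Suz.L4.hdefs Suz.L4.hsteps Suz.L4.htable)
          (by decide) c4 card_genBy_nil))
  obtain ⟨hf, hc⟩ := top_table.finite_card_le (by decide) (closure_numGens ▸ le_top) hm.1 hm.2
  rw [closure_numGens] at hf hc
  rw [Subgroup.card_top] at hc
  exact ⟨Finite.of_equiv _ Subgroup.topEquiv.toEquiv, hc.trans (by norm_num)⟩

/-- A base. -/
def base : List (Fin 416) := [0, 1, 10, 39]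

theorem card_bound : 251596800 * Nat.card (baseStab ρ base) ≤ Nat.card P := by
  have := card_le.1
  have hl : ∀ g, checkLetters 6 g = true → checkLetters (Lp).length g = true := by
    intro g h; rwa [len_Lp]
  have h4 : Nat.card (baseStab ρ base) ≤ Nat.card (baseStab ρ [(0 : Fin 416), 1, 10, 39]) := le_rfl
  have h3 := orbit_step matches_ρ (base := [(0 : Fin 416), 1, 10]) (β := 39) (m := 12) (dm := 4)
    (gens := Orb.B3G) (P := Orb.B3P) (Inv := Orb.B3Inv)
    (by decide +kernel) (hl _ (by decide +kernel)) (by decide +kernel) h4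
  have h2 := orbit_step matches_ρ (base := [(0 : Fin 416), 1]) (β := 10) (m := 160) (dm := 8)
    (gens := Orb.B2G) (P := Orb.B2P) (Inv := Orb.B2Inv)
    (by decide +kernel) (hl _ (by decide +kernel)) (by decide +kernel) h3
  have h1 := orbit_step matches_ρ (base := [(0 : Fin 416)]) (β := 1) (m := 315) (dm := 9)
    (gens := Orb.B1G) (P := Orb.B1P) (Inv := Orb.B1Inv)
    (by decide +kernel) (hl _ (by decide +kernel)) (by decide +kernel) h2
  have h0 := orbit_step matches_ρ (base := []) (β := 0) (m := 416) (dm := 9)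
    (gens := Orb.B0G) (P := Orb.B0P) (Inv := Orb.B0Inv)
    (by decide +kernel) (hl _ (by decide +kernel)) (by decide +kernel) h1
  have he : Nat.card (baseStab ρ ([] : List (Fin 416))) = Nat.card P := by simp [baseStab]
  rw [he] at h0
  simpa [← mul_assoc] using h0

theorem card_and_injective : Nat.card P = 251596800 ∧ Function.Injective ρ := by
  have := card_le.1
  refine card_eq_and_injective (by decide) card_le.2 ?_
  have he : Nat.card (baseStab ρ ([] : List (Fin 416))) = Nat.card P := by simp [baseStab]
  rw [he]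
  exact (Nat.mul_le_mul_left _ (card_ker_le base)).trans card_bound

theorem base_bot : baseStab ρ base = ⊥ :=
  haveI := card_le.1
  baseStab_eq_bot (by decide) card_le.2 base card_bound

theorem u_pow : ev Lp u ^ 13 ^ 1 = 1 := by
  rw [pow_ev, ← ev_nil (L := Lp)]
  exact matches_ρ.ev_eq_of_base base_bot (by rw [len_Lp]; decide +kernel)
    (by rw [len_Lp]; decide +kernel) (by decide +kernel)

theorem collapse (N : Subgroup P) [N.Normal] (hu : ev Lp u ∈ N) : N = ⊤ := by
  refine eq_top_of_collapse closure_numGens N hu fun L' hlen hL h1 => ?_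
  have hl : L'.length = 6 := hlen.trans len_Lp
  have hr : ∀ w ∈ Col.crels, ev L' w = 1 := by
    intro w hw
    rcases List.mem_append.mp hw with hw | hw
    · rw [hL, ev_numGens w hw, map_one]
    · rw [List.mem_singleton.mp hw]; exact h1
  have hinv : ∀ x, fl L' (id x) = (fl L' x)⁻¹ := by
    intro x
    refine eq_inv_of_mul_eq_one_left ?_
    have := hL [x, x]
    simp only [ev_cons, ev_nil, mul_one, sq_all, map_one] at this
    exact this
  have hsub : ∀ w ∈ Col.subs, ev L' w ∈ (⊥ : Subgroup (P ⧸ N)) := by
    intro w hw; simp [Col.subs] at hw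
  exact all_one_of_table (tableOK_of_check hinv Col.hR (hl.symm ▸ Col.hdefs)
    (hl.symm ▸ Col.hsteps) (hl.symm ▸ Col.htable) hr hsub)

theorem orbits_ok : checkOrbits Top.Tb 9 Top.subs Orb.certs = true := by decide +kernel

theorem cover_ok : checkCover 416 9 Orb.certs = true := by decide +kernel

theorem isSimple : IsSimpleGroup P := by
  have := card_le.1
  have : Fact (Nat.Prime 13) := ⟨by norm_num⟩
  have hmax := pstab_isCoatom_of_orbits matches_ρ (by decide) orbits_ok
    (by rw [len_Lp]; decide +kernel) cover_ok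
    transitive (by decide +kernel) index_and_eq.2.le (by decide +kernel) (by decide +kernel)
  refine isSimpleGroup_of_action (by decide) card_and_injective.2 transitive hmax
    (p := 13) (a := 1) (by norm_num) ?_ (ev Lp u) u_pow fun N hN hu => ?_
  · rw [card_and_injective.1]; norm_num
  · exact @collapse N hN hu

end CfsgLib.Coset.G24
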